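import Groth.Agent.Dual6Lib.KoszulVanish.Shriek
import Groth.Agent.MorProj.InvTensor
import Groth.Agent.SerreDual.ExtShDivisor
import Groth.Agent.DCat.PullTensor
import Groth.Agent.KvbLam28.Basic
import Groth.Prelude.Def_BlowUp2

/-!
# `i^! O = N[-1]` for an effective Cartier divisor
-/

set_option autoImplicit false
set_option backward.isDefEq.respectTransparency false
set_option backward.isDefEq.respectTransparency.types false
set_option linter.style.haveILetI false
set_option synthInstance.maxHeartbeats 100000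

universe u

open CategoryTheory CategoryTheory.Limits AlgebraicGeometry Opposite TopologicalSpace
open Groth.Agent.DCat Groth.Agent.Coherent Groth.Agent.SerreDual Groth.Agent.FundLocal

attribute [local instance] HasDerivedCategory.standard

namespace Groth.Agent.Dual6Lib.KoszulVanish

variable {P : Scheme.{u}} (I : P.IdealSheafData)

theorem exists_nice_cartier (hI : BlowUp.IsEffCartierIdeal I) {V : P.Opens} {y : P} (hy : y ∈ V) :
    ∃ W : P.affineOpens, y ∈ W.1 ∧ W.1 ≤ V ∧ Nice I.subschemeι 1 W.1 := by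
  obtain ⟨U, hyU, f, hf, hspan⟩ := hI y
  obtain ⟨g, hgV, hyg⟩ := U.2.exists_basicOpen_le ⟨y, hy⟩ hyU
  refine ⟨P.affineBasicOpen g, hyg, hgV, Or.inr ?_⟩
  have hle : (P.affineBasicOpen g).1 ≤ U.1 := P.basicOpen_le g
  have hK : CAlgH.KoszulRegular.KReg (fun _ : Fin 1 => f) :=
    SDiv28.RegSeq.kreg_of_regular (by
      rw [show List.ofFn (fun _ : Fin 1 => f) = [f] from rfl, RingTheory.Sequence.isWeaklyRegular_cons_iff]
      exact ⟨fun a b h => sub_eq_zero.1 ((mem_nonZeroDivisors_iff.1 hf).2 _ (by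
        rw [sub_mul, mul_comm a, mul_comm b, show f * a = f * b from h, sub_self])),
        RingTheory.Sequence.IsWeaklyRegular.nil _ _⟩)
  have hmap := I.map_ideal (U := P.affineBasicOpen g) (V := U) hle
  let ρ := (P.presheaf.map (homOfLE hle).op).hom
  haveI := U.2.isLocalization_basicOpen g
  have hidl : idl I.subschemeι (P.affineBasicOpen g).1 = Ideal.span {ρ f} := by
    refine (I.ker_subschemeι_app (P.affineBasicOpen g)).trans ?_
    rw [← hmap, hspan, Ideal.map_span, Set.image_singleton]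
    rfl
  refine ⟨fun _ => ⟨ρ f, hidl.ge (Ideal.mem_span_singleton_self _)⟩, ?_, ?_⟩
  · exact (congrArg Ideal.span Set.range_const).trans hidl.symm
  · exact FlatMorKoszul.kreg_map
      (RingHom.flat_algebraMap_iff.2 (IsLocalization.flat Γ(P, P.basicOpen g) (Submonoid.powers g))) hK

/-- The cohomology of `R Hom(O_D, O)`. -/
theorem HD_cartier (hI : BlowUp.IsEffCartierIdeal I) [Dual3.HasHomO I.subschemeι] (L : P.Modules)
    (hL : ClSub.IsInverseOf L (ClSub.idealMod I)) :
    (∀ j : ℤ, j ≠ 1 →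
        IsZero (DCoh.HD ((ClosedShriek.RHomOD I.subschemeι).obj (DCoh.inD P (Coh.structureModule P))) j)) ∧
      Nonempty (DCoh.HD ((ClosedShriek.RHomOD I.subschemeι).obj (DCoh.inD P (Coh.structureModule P))) 1 ≅
        (Scheme.Modules.pullback I.subschemeι).obj L) := by
  let ι := I.subschemeι
  haveI := ExtSS.preservesFiniteLimits_pushforward ι
  haveI := ExtSS.preservesFiniteColimits_pushforward ι
  haveI : Coh.IsQCoh (Coh.structureModule P) := QCohLoc.isQCoh_structureModule P
  have hB := fun {V : P.Opens} {y : P} (hy : y ∈ V) => exists_nice_cartier I hI hy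
  let R := injectiveResolution (Coh.structureModule P)
  refine ⟨fun j hj => ?_, ?_⟩
  · obtain hj0 | hj0 := lt_or_ge j 0
    · exact isZero_HD_neg ι _ j hj0
    obtain ⟨m, rfl⟩ : ∃ m : ℕ, j = (m : ℤ) := ⟨j.toNat, (Int.toNat_of_nonneg hj0).symm⟩
    obtain ⟨a⟩ := FundDerived.nonempty_push_HD ι _ R m
    have h0 := IsZero.of_iso (isZero_homology ι R hB m (by omega)) a
    rw [IsZero.iff_id_eq_zero] at h0 ⊢
    exact (SerreDual.pushFF ι).map_injective (by rw [CategoryTheory.Functor.map_id, Functor.map_zero]; exact h0)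
  · obtain ⟨a⟩ := FundDerived.nonempty_push_HD ι _ R 1
    obtain ⟨b⟩ := nonempty_homology_iso ι R hB (KvbLam28.isExtPow_one (Omega.conormal ι))
    obtain ⟨p⟩ := CAlgH.PicPunct.nonempty_pullback_unit ι
    obtain ⟨e⟩ := hL
    let C := (Scheme.Modules.pullback ι).obj (ClSub.idealMod I)
    let eC : Omega.conormal ι ≅ C := eqToIso (by rw [Omega.conormal, I.ker_subschemeι])
    let e' : CohB1.tensorMod ((Scheme.Modules.pullback ι).obj L) (Omega.conormal ι) ≅ Coh.structureModule I.subscheme :=
      AmpleLib.tensorIso (Iso.refl _) eC ≪≫ (DCat.PullTensor.pullTensorIso ι L (ClSub.idealMod I)).symm ≪≫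
        (Scheme.Modules.pullback ι).mapIso e ≪≫ p
    have hC' : PicF.IsInvertible (Omega.conormal ι) :=
      MorProj.isInvertible_of_tensor_iso (AmpleLib.tensorComm _ _ ≪≫ e')
    obtain ⟨d⟩ := SerreDual.nonempty_dual_iso_inverse hC' e'
    exact ⟨(SerreDual.pushFF ι).preimageIso (a ≪≫ b) ≪≫ (internalHomFunctor _).mapIso p ≪≫ d⟩

end Groth.Agent.Dual6Lib.KoszulVanish
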