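import Groth.Agent.WedgeDual5.Sheaf
import Groth.Agent.FundLocal.Conormal
import Groth.Agent.Coherent.Existence.HomAffine
import Mathlib.LinearAlgebra.ExteriorPower.Pairing

/-!
# The determinant of the dual is the dual of the determinant
-/

set_option autoImplicit false
set_option linter.style.haveILetI false
set_option backward.isDefEq.respectTransparency.types false
set_option maxHeartbeats 1000000

universe u

open CategoryTheory CategoryTheory.Limits AlgebraicGeometry Opposite TopologicalSpace
open Groth.Agent.Coherent Groth.Agent.PicLib Groth.Agent.AmpleLib Groth.Agent.GrassLib.PBundle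

namespace Groth.Agent.Dual6Lib.KoszulVanish

/-- In the top degree the pairing with the dual is perfect. -/
theorem bijective_pairingDual {R M : Type u} [CommRing R] [AddCommGroup M] [Module R M] {r : ℕ}
    (b : Module.Basis (Fin r) R M) : Function.Bijective (exteriorPower.pairingDual R M r) := by
  have hlc : ∀ (N : Type u) [AddCommGroup N] [Module R N] (c : Module.Basis (Fin r) R N),
      Function.Bijective (Fintype.linearCombination R fun i => c i) := fun N _ _ c => by
    convert c.equivFun.symm.bijective using 1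
    ext v
    rw [Fintype.linearCombination_apply, Module.Basis.equivFun_symm_apply]
  have h1 := FundLocal.bijective_smul_ιMulti (fun i => b i) (hlc _ b)
  have h2 := FundLocal.bijective_smul_ιMulti (fun i => b.dualBasis i) (hlc _ b.dualBasis)
  have hone : exteriorPower.pairingDual R M r (exteriorPower.ιMulti R r fun i => b.dualBasis i)
      (exteriorPower.ιMulti R r fun i => b i) = 1 := by
    rw [exteriorPower.pairingDual_ιMulti_ιMulti]
    refine Eq.trans (congrArg Matrix.det ?_) Matrix.det_one
    ext i j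
    rw [Matrix.of_apply, Module.Basis.dualBasis_apply_self, Matrix.one_apply]
  refine ⟨fun x y h => ?_, fun l => ?_⟩
  · obtain ⟨a, rfl⟩ := h2.2 x
    obtain ⟨c, rfl⟩ := h2.2 y
    have := LinearMap.congr_fun h (exteriorPower.ιMulti R r fun i => b i)
    rw [map_smul, map_smul, LinearMap.smul_apply, LinearMap.smul_apply, hone, smul_eq_mul, smul_eq_mul, mul_one,
      mul_one] at this
    rw [this]
  · refine ⟨l (exteriorPower.ιMulti R r fun i => b i) • exteriorPower.ιMulti R r fun i => b.dualBasis i,
      LinearMap.ext fun x => ?_⟩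
    obtain ⟨a, rfl⟩ := h1.2 x
    rw [map_smul, map_smul, map_smul, LinearMap.smul_apply, hone, smul_eq_mul, smul_eq_mul, mul_one, smul_eq_mul]

theorem bijective_map {R M N : Type u} [CommRing R] [AddCommGroup M] [Module R M] [AddCommGroup N] [Module R N]
    (r : ℕ) (e : M ≃ₗ[R] N) : Function.Bijective (exteriorPower.map r e.toLinearMap) := by
  refine Function.bijective_iff_has_inverse.2 ⟨exteriorPower.map r e.symm.toLinearMap, fun x => ?_, fun x => ?_⟩
  · rw [← LinearMap.comp_apply, ← exteriorPower.map_comp, LinearEquiv.comp_coe, LinearEquiv.self_trans_symm,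
      LinearEquiv.refl_toLinearMap, exteriorPower.map_id, LinearMap.id_apply]
  · rw [← LinearMap.comp_apply, ← exteriorPower.map_comp, LinearEquiv.comp_coe, LinearEquiv.symm_trans_self,
      LinearEquiv.refl_toLinearMap, exteriorPower.map_id, LinearMap.id_apply]

variable {X : Scheme.{u}} {E L L' : X.Modules} {r : ℕ}

/-- `⋀^r (E^∨) ≅ (⋀^r E)^∨` for `E` finite locally free of rank `r`. -/
theorem nonempty_det_dual (hE : FlatMod.IsFinLocFreeOfRank r E)
    (hL : ExtPow.IsExtPow r (internalHom E (Coh.structureModule X)) L) (hL' : ExtPow.IsExtPow r E L') :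
    Nonempty (L ≅ internalHom L' (Coh.structureModule X)) := by
  have hEf := LocFreeLib.isFinLocFree_of_rank hE
  haveI := CAlgH3.LocFreeFactor.isQCoh_of_finLocFree hEf
  haveI := CAlgH3.LocFreeFactor.isQCoh_of_finLocFree (WedgeDual5.isFinLocFree_of_isExtPow hEf hL')
  haveI : Coh.IsQCoh (Coh.structureModule X) := QCohLoc.isQCoh_structureModule X
  obtain ⟨φ, hφ⟩ := hL
  obtain ⟨φ', hφ'⟩ := hL'
  let Ed := internalHom E (Coh.structureModule X)
  let O := Coh.structureModule X
  let evd : ∀ U : X.affineOpens, (Ed.val.obj (op U.1)) ≃ₗ[Γ(X, U.1)] Module.Dual Γ(X, U.1) (E.val.obj (op U.1)) :=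
    fun U => Existence.secLinEquiv (F := E) (N := O) U.2
  let T : ∀ U : X.affineOpens, Γ(L, U.1) →ₗ[Γ(X, U.1)] Γ(internalHom L' O, U.1) := fun U =>
    (Existence.secLinEquiv (F := L') (N := O) U.2).symm.toLinearMap.comp
      ((φ' U).toLinearMap.dualMap.comp ((exteriorPower.pairingDual Γ(X, U.1) (E.val.obj (op U.1)) r).comp
        ((exteriorPower.map r (evd U).toLinearMap).comp (φ U).toLinearMap)))
  have hval : ∀ (U : X.affineOpens) (v : Fin r → Γ(Ed, U.1)) (w : Fin r → Γ(E, U.1)),
      Existence.secLinEquiv U.2 (T U (wedge φ U v)) (wedge φ' U w) =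
        (show Γ(O, U.1) from (Matrix.det (n := Fin r) (Matrix.of fun i j =>
          (show Γ(X, U.1) from Existence.evLin (v j) (w i))) : Γ(X, U.1))) := fun U v w => by
    show Existence.secLinEquiv U.2 ((Existence.secLinEquiv U.2).symm _) _ = _
    rw [LinearEquiv.apply_symm_apply]
    show exteriorPower.pairingDual Γ(X, U.1) _ r
      (exteriorPower.map r (evd U).toLinearMap (φ U ((φ U).symm _))) (φ' U ((φ' U).symm _)) = _
    rw [LinearEquiv.apply_symm_apply, LinearEquiv.apply_symm_apply, exteriorPower.map_apply_ιMulti,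
      exteriorPower.pairingDual_ιMulti_ιMulti]
    rfl
  have hbasic : ∀ (U : X.affineOpens) (f : Γ(X, U.1)) (D : X.affineOpens) (hle : D.1 ≤ U.1),
      D.1 = X.basicOpen f → ∀ x, T D (resM L hle x) = resM (internalHom L' O) hle (T U x) := by
    rintro U f ⟨D, (hD : IsAffineOpen D)⟩ hle (rfl : D = _) x
    refine (Existence.secLinEquiv hD).injective (LinearMap.ext fun a => ?_)
    obtain ⟨k, b, hb⟩ := Coherent.qcoh_exists_pow_smul U.2 L' f a
    have hu : IsUnit (Existence.rmap hle (f ^ k)) := by
      rw [map_pow]; exact (Existence.isUnit_rmap f le_rfl).pow k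
    refine hu.smul_left_cancel.1 ?_
    rw [← map_smul, ← map_smul, ← hb]
    clear hb
    show Existence.secLinEquiv hD (T ⟨_, hD⟩ (resM L hle x)) (resM L' hle b) =
      Existence.evLin (resM (internalHom L' O) hle (T U x)) (resM L' hle b)
    rw [Existence.evLin_res]
    refine ExtFilt28.wedge_induction φ (A := U) (P := fun x => Existence.secLinEquiv hD (T ⟨_, hD⟩ (resM L hle x))
      (resM L' hle b) = resM O hle (Existence.secLinEquiv U.2 (T U x) b)) ?_ ?_ ?_ ?_ x
    · simp only [map_zero, LinearMap.zero_apply]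
    · intro p q hp hq; simp only [map_add, LinearMap.add_apply]; rw [hp, hq]
    · intro c p hp
      rw [resM_smul, map_smul, map_smul, LinearMap.smul_apply, hp, map_smul, map_smul, LinearMap.smul_apply, resM_smul]
    intro v
    refine ExtFilt28.wedge_induction φ' (A := U) (P := fun b => Existence.secLinEquiv hD
      (T ⟨_, hD⟩ (resM L hle (wedge φ U v))) (resM L' hle b) =
        resM O hle (Existence.secLinEquiv U.2 (T U (wedge φ U v)) b)) ?_ ?_ ?_ ?_ b
    · simp only [map_zero]
    · intro p q hp hq; simp only [map_add]; rw [hp, hq]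
    · intro c p hp; rw [resM_smul, map_smul, hp, map_smul, resM_smul]
    intro w
    rw [wedge_res φ hφ (A := U) (B := ⟨_, hD⟩) hle, wedge_res φ' hφ' (A := U) (B := ⟨_, hD⟩) hle]
    refine (hval ⟨_, hD⟩ _ _).trans ?_
    rw [hval U v w]
    show _ = (X.presheaf.map (homOfLE hle).op).hom _
    rw [RingHom.map_det]
    refine congrArg Matrix.det (Matrix.ext fun i j => ?_)
    exact Existence.evLin_res hle (v j) (w i)
  have hnat : ∀ (U V : X.affineOpens) (h : V.1 ≤ U.1) (x : Γ(L, U.1)),
      T V (resM L h x) = resM (internalHom L' O) h (T U x) := fun U V h x => by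
    refine AmpleLib.sec_ext _ _ _ fun y hy => ?_
    obtain ⟨f, hfV, hyf⟩ := U.2.exists_basicOpen_le ⟨y, hy⟩ (h hy)
    let D : X.affineOpens := ⟨X.basicOpen f, U.2.basicOpen f⟩
    have hD : D.1 = X.basicOpen (Existence.rmap h f) := by
      show X.basicOpen f = X.basicOpen ((X.presheaf.map (homOfLE h).op) f)
      rw [Scheme.basicOpen_res, inf_eq_right.2 hfV]
    refine ⟨D.1, hfV, hyf, ?_⟩
    rw [← hbasic V _ D hfV hD, resM_resM, resM_resM, hbasic U f D _ rfl]
  obtain ⟨ψ, hψ⟩ := InjMod14.Kosz.exists_hom_of_affine L (internalHom L' O) T hnat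
  suffices IsIso ψ from ⟨@asIso _ _ _ _ ψ this⟩
  refine InjMod14.Kosz.isIso_of_affine_nbhds ψ fun W x hx => ?_
  obtain ⟨A, hxA, ⟨eA⟩⟩ := hE x
  obtain ⟨(U : X.Opens), hU, hxU, hle⟩ := Opens.isBasis_iff_nbhd.mp X.isBasis_affineOpens
    (show x ∈ A ⊓ W from ⟨hxA, hx⟩)
  refine ⟨⟨U, hU⟩, hxU, hle.trans inf_le_right, ?_⟩
  obtain ⟨b⟩ := Props12.exists_basis_sections eA (hle.trans inf_le_left)
  let b' : Module.Basis (Fin r) Γ(X, U) (E.val.obj (op U)) := b
  rw [show ⇑(ψ.app U) = ⇑(T ⟨U, hU⟩) from funext fun s => hψ ⟨U, hU⟩ s]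
  exact (Existence.secLinEquiv hU).symm.bijective.comp ((φ' ⟨U, hU⟩).dualMap.bijective.comp
    ((bijective_pairingDual b').comp ((bijective_map r (evd ⟨U, hU⟩)).comp (φ ⟨U, hU⟩).bijective)))

end Groth.Agent.Dual6Lib.KoszulVanish
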