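import Groth.Agent.Dual6Lib.KoszulVanish.Residue
import Groth.Agent.Dual6Lib.FundDerived
import Groth.Agent.Props12.FinLocFree
import Groth.Agent.CAlgH.KoszulDescent
import Groth.Agent.FlatMorKoszul.Basic
import Groth.Prelude.Def_Dual3

/-!
# The fundamental local isomorphism for Koszul regular immersions, with vanishing outside the codimension
-/

set_option autoImplicit false
set_option linter.style.haveILetI false
set_option linter.unusedSectionVars false
set_option backward.isDefEq.respectTransparency false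
set_option backward.isDefEq.respectTransparency.types false
set_option synthInstance.maxHeartbeats 100000

universe u

open CategoryTheory CategoryTheory.Limits AlgebraicGeometry Opposite TopologicalSpace
open Groth.Agent.Coherent Groth.Agent.PicLib Groth.Agent.AmpleLib Groth.Agent.SerreDual Groth.Agent.FundLocal

namespace Groth.Agent.Dual6Lib.KoszulVanish

variable {P X : Scheme.{u}} (ι : X ⟶ P) [IsClosedImmersion ι]

theorem exists_nice (hi : Dual3.IsKoszulRegularImmersion ι) {r : ℕ}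
    (hC : FlatMod.IsFinLocFreeOfRank r (Omega.conormal ι)) {V : P.Opens} {y : P} (hy : y ∈ V) :
    ∃ W : P.affineOpens, y ∈ W.1 ∧ W.1 ≤ V ∧ Nice ι r W.1 := by
  by_cases hyX : y ∈ Set.range ι.base
  · obtain ⟨x, rfl⟩ := hyX
    obtain ⟨A, hxA, ⟨eA⟩⟩ := hC x
    obtain ⟨S, hS, hSA⟩ := ι.isClosedEmbedding.isInducing.isOpen_iff.1 A.2
    let V₀ : P.Opens := ⟨S, hS⟩
    have hA : ι ⁻¹ᵁ V₀ = A := Opens.ext hSA
    obtain ⟨U, hU, hxU, hUV⟩ := Opens.isBasis_iff_nbhd.mp P.isBasis_affineOpens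
      (show ι.base x ∈ V ⊓ V₀ from ⟨hy, (hA.ge hxA : x ∈ ι ⁻¹ᵁ V₀)⟩)
    let 𝔭 := hU.primeIdealOf ⟨ι.base x, hxU⟩
    have hmem : ∀ a : Γ(P, U), ι.base x ∈ P.basicOpen a ↔ a ∉ 𝔭.asIdeal := fun a => by
      have h : hU.fromSpec 𝔭 ∈ P.basicOpen a ↔ 𝔭 ∈ PrimeSpectrum.basicOpen a :=
        SetLike.ext_iff.1 (hU.fromSpec_preimage_basicOpen a) 𝔭
      rwa [hU.fromSpec_primeIdealOf] at h
    have hI : ι.ker.ideal ⟨U, hU⟩ ≤ 𝔭.asIdeal := fun a ha => by
      by_contra hn
      have hx' : x ∈ ι ⁻¹ᵁ P.basicOpen a := (hmem a).2 hn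
      rw [Scheme.preimage_basicOpen, show ι.app U a = 0 by
        rw [Scheme.Hom.ker_apply] at ha; exact ha, Scheme.basicOpen_zero] at hx'
      exact hx'
    obtain ⟨g, hg, l, hl, hspan⟩ := hi.2 ⟨U, hU⟩ 𝔭 hI
    have hxg : ι.base x ∈ P.basicOpen g := (hmem g).2 hg
    have hle : P.basicOpen g ≤ U := P.basicOpen_le g
    let W : P.affineOpens := ⟨P.basicOpen g, hU.basicOpen g⟩
    letI := (P.presheaf.map (homOfLE hle).op).hom.toAlgebra
    haveI : IsLocalization.Away g Γ(P, P.basicOpen g) := hU.isLocalization_basicOpen g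
    let e : Localization.Away g ≃ₐ[Γ(P, U)] Γ(P, P.basicOpen g) :=
      IsLocalization.algEquiv (Submonoid.powers g) _ _
    have hmap := ι.ker.map_ideal (U := W) (V := ⟨U, hU⟩) hle
    rw [Scheme.Hom.ker_apply, Scheme.Hom.ker_apply] at hmap
    rw [Scheme.Hom.ker_apply] at hspan
    have hker : idl ι W.1 = Ideal.map e.toAlgHom.toRingHom (Ideal.span {a | a ∈ l}) := by
      rw [← hspan, Ideal.map_map]
      refine hmap.symm.trans ?_
      exact congrArg (fun φ => Ideal.map φ _) (RingHom.ext fun a => (e.commutes a).symm)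
    have hsp : Ideal.span (Set.range fun i => e (l.get i)) = idl ι W.1 := by
      rw [hker, Ideal.map_span]
      refine congrArg Ideal.span (Set.ext fun a => ⟨?_, ?_⟩)
      · rintro ⟨i, rfl⟩
        exact ⟨_, List.get_mem l i, rfl⟩
      · rintro ⟨b, hb, rfl⟩
        obtain ⟨i, rfl⟩ := List.mem_iff_get.1 hb
        exact ⟨i, rfl⟩
    let gg : Fin l.length → idl ι W.1 := fun i => ⟨e (l.get i), hsp.le (Ideal.subset_span ⟨i, rfl⟩)⟩
    have hK : CAlgH.KoszulRegular.KReg fun i => (gg i).1 :=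
      FlatMorKoszul.kreg_map (φ := e.toAlgHom.toRingHom) (RingHom.Flat.of_bijective e.bijective)
        (CAlgH.KoszulDescent.kreg_get hl)
    have hWA : ι ⁻¹ᵁ W.1 ≤ A := fun z hz => hA.le ((hUV (hle hz)).2)
    have hWa : IsAffineOpen (ι ⁻¹ᵁ W.1) := W.2.preimage ι
    obtain ⟨b⟩ := Props12.exists_basis_sections eA hWA
    haveI : Nonempty (ι ⁻¹ᵁ W.1).toScheme := ⟨⟨x, hxg⟩⟩
    let q := LinearEquiv.ofBijective _ (bijective_cls ι W.2 gg hsp hK hWa le_rfl)
    have hlen : l.length = r := by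
      have := (q ≪≫ₗ b.equivFun).finrank_eq
      rwa [Module.finrank_fin_fun, Module.finrank_fin_fun] at this
    subst hlen
    exact ⟨W, hxg, fun z hz => (hUV (hle hz)).1, Or.inr ⟨gg, hsp, hK⟩⟩
  · have hopen : IsOpen (Set.range ι.base)ᶜ := ι.isClosedEmbedding.isClosed_range.isOpen_compl
    obtain ⟨W, hW, hyW, hWV⟩ := Opens.isBasis_iff_nbhd.mp P.isBasis_affineOpens
      (show y ∈ V ⊓ ⟨_, hopen⟩ from ⟨hy, hyX⟩)
    refine ⟨⟨W, hW⟩, hyW, hWV.trans inf_le_left, Or.inl ((Ideal.eq_top_iff_one _).2 ?_)⟩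
    have hbot : ι ⁻¹ᵁ W = ⊥ := Opens.ext (Set.eq_empty_of_forall_notMem fun x hx => (hWV hx).2 ⟨x, rfl⟩)
    haveI : Subsingleton Γ(X, ι ⁻¹ᵁ W) := by
      rw [hbot]
      exact CommRingCat.subsingleton_of_isTerminal X.sheaf.isTerminalOfEmpty
    exact Subsingleton.elim _ _

section Degree

variable {F : P.Modules} [Coh.IsQCoh F] (I : InjectiveResolution F) {r : ℕ}

/-- The fundamental local isomorphism, from a basis of nice opens. -/
theorem nonempty_homology_iso {L : X.Modules}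
    (hB : ∀ {V : P.Opens} {y : P}, y ∈ V → ∃ W : P.affineOpens, y ∈ W.1 ∧ W.1 ≤ V ∧ Nice ι r W.1)
    (hL : ExtPow.IsExtPow r (Omega.conormal ι) L) :
    Nonempty ((homCx (pushO ι) I).homology r ≅
      (Scheme.Modules.pushforward ι).obj (internalHom L ((Scheme.Modules.pullback ι).obj F))) := by
  obtain ⟨φ, hφ⟩ := hL
  have hbasis : Opens.IsBasis (Set.range fun j : FrameOpens ι φ => j.1.1) := by
    rw [Opens.isBasis_iff_nbhd]
    intro V y hy
    obtain ⟨W, hyW, hWV, hW⟩ := hB hy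
    exact ⟨W.1, ⟨⟨W, exists_frame ι φ hφ W.2 hW⟩, rfl⟩, hyW, hWV⟩
  obtain ⟨Φ, hΦ'⟩ := DefFin29.exists_hom_of_basis (F := (homCx (pushO ι) I).cycles r)
    (G := (Scheme.Modules.pushforward ι).obj (internalHom L ((Scheme.Modules.pullback ι).obj F)))
    (fun j : FrameOpens ι φ => j.1.1) hbasis
    (fun j => AddMonoidHom.mk' (fun z => img ι I φ j z) (img_add ι I φ hφ j))
    (fun j j' h z => img_res ι I φ hφ j j' h z) (fun j c z => img_smul ι I φ hφ j c z)
  have hΦ : ∀ (U : P.Opens) (hU : IsAffineOpen U), Nice ι r U → ∀ z,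
      FundLocal.Spec ι I φ hU (tv ι I U z) (Φ.app U z) := fun U hU hN z => by
    obtain ⟨g, hg⟩ := exists_frame ι φ hφ hU hN
    have h := hΦ' ⟨⟨U, hU⟩, g, hg⟩ z
    rw [h]
    exact img_spec ι I φ ⟨⟨U, hU⟩, g, hg⟩ z
  have hbd : (homCx (pushO ι) I).toCycles (r - 1) r ≫ Φ = 0 := by
    refine Scheme.Modules.hom_ext _ _ fun V => ConcreteCategory.hom_ext _ _ fun s => AmpleLib.sec_ext _ _ _ fun y hy => ?_
    obtain ⟨W, hyW, hWV, hW⟩ := hB hy
    refine ⟨W.1, hWV, hyW, ?_⟩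
    rw [← app_resM, ← app_resM]
    generalize resM ((homCx (pushO ι) I).X (r - 1)) hWV s = ψ
    show Φ.app W.1 (((homCx (pushO ι) I).toCycles (r - 1) r).app W.1 ψ) = 0
    obtain ⟨g, hg⟩ := exists_frame ι φ hφ W.2 hW
    refine sec_ext_gen hg.2 _ _ ?_
    obtain ⟨x, hx⟩ := exists_res ι I W.2 g (((homCx (pushO ι) I).toCycles (r - 1) r).app W.1 ψ)
    rw [hΦ W.1 W.2 hW _ g x hx]
    refine (pullSec_eq_zero ι ?_).trans rfl
    refine Submodule.smul_mono_left (span_le_idl ι g) ?_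
    have htv : tv ι I W.1 (((homCx (pushO ι) I).toCycles (r - 1) r).app W.1 ψ) =
        (I.cocomplex.d (r - 1) r).app W.1 (val ι (N := I.cocomplex.X (r - 1)) ψ) := by
      rw [tv, show ((homCx (pushO ι) I).iCycles r).app W.1 (((homCx (pushO ι) I).toCycles (r - 1) r).app W.1 ψ) =
        ((homCx (pushO ι) I).d (r - 1) r).app W.1 ψ from
        congrArg (fun f => f.app W.1 ψ) ((homCx (pushO ι) I).toCycles_i (r - 1) r), val_d]
    rw [htv] at hx
    cases r with
    | zero =>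
      rw [I.cocomplex.shape _ _ (by simp)] at hx
      exact IsRes.mem_zero (εI_injective I W.1) (exact_εI I W.1) (exact_dI I W.2) hx
    | succ m =>
      exact IsRes.mem_d (εI_injective I W.1) (exact_εI I W.1) (exact_dI I W.2)
        (fun i => smul_val ι (g i).2 ψ) hx
  have hc := (homCx (pushO ι) I).homologyIsCokernel (r - 1) r (by cases r <;> simp)
  obtain ⟨θ, hθ⟩ : ∃ θ, (homCx (pushO ι) I).homologyπ r ≫ θ = Φ :=
    ⟨hc.desc (CokernelCofork.ofπ Φ hbd), hc.fac _ WalkingParallelPair.one⟩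
  have hθ' : ∀ (U : P.Opens) z, θ.app U (((homCx (pushO ι) I).homologyπ r).app U z) = Φ.app U z := fun U z =>
    congrArg (fun f => f.app U z) hθ
  suffices hinj : ∀ U, Function.Injective (θ.app U) by
    haveI : Mono θ := ⟨fun g h w => Scheme.Modules.hom_ext _ _ fun U => ConcreteCategory.hom_ext _ _ fun a =>
      hinj U (congrArg (fun f => f.app U a) w)⟩
    haveI : Epi θ := epi_of_locally_surjective θ fun U y x hx => by
      obtain ⟨W, hxW, hWU, hW⟩ := hB hx
      obtain ⟨z, hz⟩ := residue_surjective ι I φ hφ Φ hΦ W.2 hW (resM _ hWU y)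
      exact ⟨W.1, hWU, hxW, _, (hθ' W.1 z).trans hz⟩
    exact ⟨@asIso _ _ _ _ θ (isIso_of_mono_of_epi θ)⟩
  intro U a b hab
  rw [← sub_eq_zero]
  refine AmpleLib.sec_ext _ _ _ fun y hy => ?_
  obtain ⟨W', hW', hy', c, hc'⟩ := exists_lift_of_epi ((homCx (pushO ι) I).homologyπ r) U (a - b) y hy
  obtain ⟨W, hyW, hWW', hW⟩ := hB hy'
  refine ⟨W.1, hWW'.trans hW', hyW, ?_⟩
  rw [map_zero, ← resM_resM _ hW' hWW', ← hc', ← app_resM]
  have h0 : Φ.app W.1 (resM _ hWW' c) = 0 := by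
    rw [app_resM, ← hθ', hc', app_resM, map_sub, hab, sub_self, map_zero, map_zero]
  obtain ⟨s, hs⟩ := residue_kernel ι I φ hφ Φ hΦ W.2 hW _ h0
  rw [← hs]
  exact congrArg (fun f => f.app W.1 s) ((homCx (pushO ι) I).toCycles_comp_homologyπ (r - 1) r)

end Degree

/-- `Ext^j(ι_* O, O) = 0` outside the codimension. -/
theorem isZero_homology [Coh.IsQCoh (Coh.structureModule P)] (I : InjectiveResolution (Coh.structureModule P)) {r : ℕ}
    (hB : ∀ {V : P.Opens} {y : P}, y ∈ V → ∃ W : P.affineOpens, y ∈ W.1 ∧ W.1 ≤ V ∧ Nice ι r W.1)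
    (j : ℕ) (hj : j ≠ r) : IsZero ((homCx (pushO ι) I).homology j) := by
  let H := (homCx (pushO ι) I).homology j
  rw [IsZero.iff_id_eq_zero]
  refine Scheme.Modules.hom_ext _ _ fun U => ConcreteCategory.hom_ext _ _ fun a => AmpleLib.sec_ext _ _ _ fun y hy => ?_
  obtain ⟨W', hW', hy', c, hc'⟩ := exists_lift_of_epi ((homCx (pushO ι) I).homologyπ j) U a y hy
  obtain ⟨W, hyW, hWW', hW⟩ := hB hy'
  refine ⟨W.1, hWW'.trans hW', hyW, ?_⟩
  show resM H (hWW'.trans hW') a = resM H (hWW'.trans hW') 0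
  rw [map_zero, ← resM_resM _ hW' hWW', ← hc', ← app_resM]
  generalize resM _ hWW' c = z
  have hzero : ∀ w : Γ((homCx (pushO ι) I).cycles j, W.1), tv ι I W.1 w = 0 → w = 0 := fun w hw =>
    tv_injective ι I W.1 (hw.trans (by rw [tv, map_zero]; rfl))
  obtain h | ⟨g, hspan, hK⟩ := hW
  · rw [hzero z, map_zero]
    have := smul_tv ι I z ⟨1, h ▸ Submodule.mem_top⟩
    rwa [one_smul] at this
  let e : Γ(Coh.structureModule P, W.1) ≃ₗ[Γ(P, W.1)] Γ(P, W.1) := LinearEquiv.refl _ _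
  cases j with
  | zero =>
    obtain ⟨x, hx⟩ := (exact_εI I W.1 _).1 (d_tv ι I W.1 z)
    rw [hzero z, map_zero]
    rw [← hx, eq_zero_of_smul e hK (by omega) x fun i => εI_injective I W.1 (by
      rw [map_smul, hx, map_zero]; exact smul_tv ι I z (g i)), map_zero]
  | succ m =>
    obtain ⟨s, hs, hds⟩ := exists_boundary e hK (εI_injective I W.1) (exact_εI I W.1) (exact_dI I W.2)
      (fun i => haveI := I.injective i; injective_sections (I.cocomplex.X i) W.2) m (by omega)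
      (tv ι I W.1 z) (d_tv ι I W.1 z) (fun i => smul_tv ι I z (g i))
    obtain ⟨ψ, hψ⟩ := exists_val ι W.2 s fun a ha => by
      have hle : Ideal.span (Set.range fun i => (g i).1) ≤
          Submodule.comap (LinearMap.toSpanSingleton Γ(P, W.1) _ s) ⊥ := by
        rw [Ideal.span, Submodule.span_le]
        rintro _ ⟨i, rfl⟩
        exact hs i
      exact hle (hspan.ge ha)
    have hz : ((homCx (pushO ι) I).toCycles m (m + 1)).app W.1 ψ = z := by
      refine tv_injective ι I W.1 ?_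
      rw [← hds, tv]
      rw [show ((homCx (pushO ι) I).iCycles (m + 1)).app W.1 (((homCx (pushO ι) I).toCycles m (m + 1)).app W.1 ψ) =
        ((homCx (pushO ι) I).d m (m + 1)).app W.1 ψ from
        congrArg (fun f => f.app W.1 ψ) ((homCx (pushO ι) I).toCycles_i m (m + 1)), val_d, hψ]
      rfl
    rw [← hz]
    exact congrArg (fun f => f.app W.1 ψ) ((homCx (pushO ι) I).toCycles_comp_homologyπ m (m + 1))

end Groth.Agent.Dual6Lib.KoszulVanish
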