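import Groth.Agent.CAlgH.KoszulRegular
import Mathlib.LinearAlgebra.ExteriorAlgebra.Basis

/-!
# Self-duality of the Koszul complex

The product into the top degree is a perfect pairing of `K_p` and `K_q`, `p + q = n`, and the differential is its
own transpose up to sign; so functionals killing boundaries extend along the differential below the top degree.
-/

universe u

set_option autoImplicit false
set_option backward.isDefEq.respectTransparency false
set_option linter.style.haveILetI false

open Groth.Agent.Disc12.Koszul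
open ExteriorAlgebra (exteriorPower)

namespace Groth.Agent.Dual6Lib.KoszulVanish

variable {R : Type u} [CommRing R] {n : ℕ}

local notation "E" => ExteriorAlgebra R (Fin n → R)
local notation "bE" => Module.Basis.ExteriorAlgebra (Pi.basisFun R (Fin n))

/-- The coefficient of the top vector. -/
noncomputable def κ : E →ₗ[R] R := Module.Basis.coord bE Finset.univ

theorem D_mul (l : (Fin n → R) →ₗ[R] R) : ∀ (p : ℕ) {x : E}, x ∈ ⋀[R]^p (Fin n → R) → ∀ y : E,
    D l (x * y) = D l x * y + (-1 : R) ^ p • (x * D l y)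
  | 0, x, hx, y => by
    rw [exteriorPower, pow_zero, Submodule.mem_one] at hx
    obtain ⟨r, rfl⟩ := hx
    rw [D_algebraMap, zero_mul, zero_add, pow_zero, one_smul, ← Algebra.smul_def, ← Algebra.smul_def, map_smul]
  | p + 1, x, hx, y => by
    rw [exteriorPower, pow_succ'] at hx
    induction hx using Submodule.mul_induction_on' with
    | mem_mul_mem a ha b hb =>
      obtain ⟨v, rfl⟩ := ha
      rw [mul_assoc, D_ι_mul, D_ι_mul, D_mul l p hb, mul_add, mul_smul_comm, pow_succ, mul_neg_one, neg_smul,
        sub_mul, smul_mul_assoc, mul_assoc, mul_assoc]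
      abel
    | add a _ b _ ha hb =>
      rw [add_mul, map_add, ha, hb, map_add, add_mul, add_mul, smul_add]
      abel

/-- The differential is its own transpose up to sign. -/
theorem κ_adj (f : Fin n → R) {p q : ℕ} (h : p + q + 1 = n) (x : K R n (p + 1)) (y : K R n (q + 1)) :
    κ ((d f p x).1 * y.1) = (-1 : R) ^ p * κ (x.1 * (d f q y).1) := by
  have hxy : x.1 * y.1 = 0 := by
    haveI : Subsingleton (K R n (p + 1 + (q + 1))) := subsingleton_K (by omega)
    exact congrArg Subtype.val (Subsingleton.elim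
      (⟨x.1 * y.1, by rw [exteriorPower, pow_add]; exact Submodule.mul_mem_mul x.2 y.2⟩ : K R n (p + 1 + (q + 1))) 0)
  have hD := D_mul (functional f) (p + 1) x.2 y.1
  rw [hxy, map_zero] at hD
  have := congrArg (κ (R := R) (n := n)) hD
  rw [map_zero, map_add, map_smul, smul_eq_mul, pow_succ] at this
  rw [coe_d, coe_d]
  linear_combination -this

/-- Products of basis vectors in complementary degrees. -/
theorem κ_basis {p q : ℕ} (h : p + q = n) (S : Set.powersetCard (Fin n) p) (T : Set.powersetCard (Fin n) q) :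
    (T.1 ≠ S.1ᶜ → κ (bE S.1 * bE T.1) = (0 : R)) ∧ (T.1 = S.1ᶜ → IsUnit (κ (R := R) (bE S.1 * bE T.1))) := by
  refine ⟨fun hne => ?_, fun heq => ?_⟩
  · rw [ExteriorAlgebra.basis_mul_of_not_disjoint _ S T fun hd => hne ?_, map_zero]
    refine Finset.eq_of_subset_of_card_le (fun a ha => Finset.mem_compl.2 (Finset.disjoint_right.1 hd ha)) ?_
    rw [Finset.card_compl, Fintype.card_fin, S.2, T.2]
    omega
  · have hd : Disjoint S.1 T.1 := heq ▸ disjoint_compl_right
    have hU : (Set.powersetCard.disjUnion hd).1 = Finset.univ :=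
      Finset.eq_univ_of_card _ (by rw [(Set.powersetCard.disjUnion hd).2, Fintype.card_fin, h])
    rw [ExteriorAlgebra.basis_mul_of_disjoint _ S T hd, hU, Units.smul_def, map_zsmul, κ,
      Module.Basis.coord_apply, Module.Basis.repr_self, Finsupp.single_eq_same, zsmul_one]
    exact (Equiv.Perm.sign _).isUnit.map (Int.castRingHom R)

theorem coe_basis (p : ℕ) (S : Set.powersetCard (Fin n) p) :
    (((Pi.basisFun R (Fin n)).exteriorPower p S : K R n p) : E) = bE S.1 :=
  (ExteriorAlgebra.basis_eq_coe_basis _ S).symm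

/-- The complementary index. -/
def comp {p q : ℕ} (h : p + q = n) (S : Set.powersetCard (Fin n) p) : Set.powersetCard (Fin n) q :=
  ⟨S.1ᶜ, by show S.1ᶜ.card = q; rw [Finset.card_compl, Fintype.card_fin, S.2]; omega⟩

theorem comp_comp {p q : ℕ} (h : p + q = n) (h' : q + p = n) (T : Set.powersetCard (Fin n) q) :
    (comp h (comp h' T)).1 = T.1 := compl_compl _

/-- The pairing is non-degenerate. -/
theorem eq_zero_of_pairing {p q : ℕ} (h : p + q = n) (b : K R n q) (hb : ∀ a : K R n p, κ (a.1 * b.1) = 0) :
    b = 0 := by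
  have h' : q + p = n := by omega
  refine ((Pi.basisFun R (Fin n)).exteriorPower q).ext_elem fun T => ?_
  rw [map_zero, Finsupp.zero_apply]
  have := hb ((Pi.basisFun R (Fin n)).exteriorPower p (comp h' T))
  conv_lhs at this => rw [← ((Pi.basisFun R (Fin n)).exteriorPower q).sum_repr b]
  rw [AddSubmonoidClass.coe_finsetSum, Finset.mul_sum, map_sum, Finset.sum_eq_single T] at this
  · rw [Submodule.coe_smul, mul_smul_comm, map_smul, coe_basis, coe_basis, smul_eq_mul] at this
    exact ((κ_basis h (comp h' T) T).2 (compl_compl T.1).symm).mul_left_eq_zero.1 this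
  · intro T' _ hne
    rw [Submodule.coe_smul, mul_smul_comm, map_smul, coe_basis, coe_basis,
      (κ_basis h (comp h' T) T').1 (fun e => hne (Subtype.ext (e.trans (compl_compl T.1)))), smul_zero]
  · exact fun hT => absurd (Finset.mem_univ _) hT

/-- Every functional is a product into the top degree. -/
theorem exists_pairing {p q : ℕ} (h : p + q = n) (φ : K R n p →ₗ[R] R) :
    ∃ b : K R n q, ∀ a : K R n p, κ (a.1 * b.1) = φ a := by
  let u := fun S => ((κ_basis (R := R) h S (comp h S)).2 rfl).unit
  let b : K R n q := ∑ S, (((u S)⁻¹ : Rˣ) * φ ((Pi.basisFun R (Fin n)).exteriorPower p S) : R) •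
    (Pi.basisFun R (Fin n)).exteriorPower q (comp h S)
  refine ⟨b, fun a => ?_⟩
  suffices κ.comp (((LinearMap.mulRight R b.1)).comp (⋀[R]^p (Fin n → R)).subtype) = φ from LinearMap.congr_fun this a
  refine ((Pi.basisFun R (Fin n)).exteriorPower p).ext fun S => ?_
  show κ (((Pi.basisFun R (Fin n)).exteriorPower p S : K R n p).1 * b.1) = _
  rw [AddSubmonoidClass.coe_finsetSum, Finset.mul_sum, map_sum, Finset.sum_eq_single S]
  · rw [Submodule.coe_smul, mul_smul_comm, map_smul, coe_basis, coe_basis, smul_eq_mul, mul_comm _ (φ _), mul_assoc]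
    show φ _ * (((u S)⁻¹ : Rˣ) * (u S : R)) = _
    rw [Units.inv_mul, mul_one]
  · intro S' _ hne
    rw [Submodule.coe_smul, mul_smul_comm, map_smul, coe_basis, coe_basis,
      (κ_basis h S (comp h S')).1 (fun e => hne (Subtype.ext (compl_injective e))), smul_zero]
  · exact fun hT => absurd (Finset.mem_univ _) hT

variable {f : Fin n → R}

/-- A functional on vectors of degree zero killing `(f)` vanishes if the sequence is nonempty. -/
theorem eq_zero_of_comp_d (hK : CAlgH.KoszulRegular.KReg f) (hn : 0 < n) (η : K R n 0 →ₗ[R] R)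
    (hη : η ∘ₗ d f 0 = 0) : η = 0 := by
  obtain ⟨q, rfl⟩ : ∃ q, n = q + 1 := ⟨n - 1, by omega⟩
  obtain ⟨b, hb⟩ := exists_pairing (q := q + 1) (by omega) η
  have hdb : d f q b = 0 := eq_zero_of_pairing (p := 1) (by omega) _ fun z => by
    have := κ_adj f (p := 0) (q := q) (by omega) z b
    rw [pow_zero, one_mul, hb, show η (d f 0 z) = 0 from LinearMap.congr_fun hη z] at this
    exact this.symm
  obtain ⟨w, hw⟩ := (hK q b).1 hdb
  haveI : Subsingleton (K R (q + 1) (q + 1 + 1)) := subsingleton_K (by omega)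
  refine LinearMap.ext fun a => ?_
  rw [← hb, ← hw, Subsingleton.elim w 0, map_zero, ZeroMemClass.coe_zero, mul_zero, map_zero]
  rfl

/-- A functional killing boundaries below the top degree extends along the differential. -/
theorem exists_comp_d (hK : CAlgH.KoszulRegular.KReg f) {p : ℕ} (hp : p + 1 ≠ n) (η : K R n (p + 1) →ₗ[R] R)
    (hη : η ∘ₗ d f (p + 1) = 0) : ∃ η' : K R n p →ₗ[R] R, η' ∘ₗ d f p = η := by
  obtain h | h := Nat.lt_or_gt_of_ne hp
  · obtain ⟨q, rfl⟩ : ∃ q, n = p + 1 + (q + 1) := ⟨n - p - 2, by omega⟩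
    obtain ⟨b, hb⟩ := exists_pairing (q := q + 1) rfl η
    have hdb : d f q b = 0 := eq_zero_of_pairing (p := p + 1 + 1) (by omega) _ fun z => by
      have := κ_adj f (p := p + 1) (q := q) (by omega) z b
      rw [hb, show η (d f (p + 1) z) = 0 from LinearMap.congr_fun hη z] at this
      exact ((isUnit_neg_one.pow (p + 1)).mul_right_eq_zero).1 this.symm
    obtain ⟨w, hw⟩ := (hK q b).1 hdb
    refine ⟨((-1 : R) ^ p) • κ.comp ((LinearMap.mulRight R w.1).comp (⋀[R]^p _).subtype), LinearMap.ext fun a => ?_⟩
    show (-1 : R) ^ p * κ ((d f p a).1 * w.1) = η a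
    rw [κ_adj f (q := q + 1) (by omega) a w, hw, hb, ← mul_assoc, ← mul_pow, neg_one_mul, neg_neg, one_pow, one_mul]
  · haveI : Subsingleton (K R n (p + 1)) := subsingleton_K (by omega)
    exact ⟨0, LinearMap.ext fun a => by rw [Subsingleton.elim a 0, map_zero, map_zero]⟩

end Groth.Agent.Dual6Lib.KoszulVanish
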