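import Groth.Agent.Dual6Lib.KoszulVanish.Pairing
import Groth.Agent.FundLocal.Residue

/-!
# Cycles killed by a Koszul regular sequence outside its length are boundaries
-/

universe u

set_option autoImplicit false
set_option backward.isDefEq.respectTransparency false
set_option linter.style.haveILetI false

open Groth.Agent.Disc12.Koszul

namespace Groth.Agent.Dual6Lib.KoszulVanish

variable {R : Type u} [CommRing R] {n : ℕ} {N : Type u} [AddCommGroup N] [Module R N] {G : ℕ → Type u}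
  [∀ i, AddCommGroup (G i)] [∀ i, Module R (G i)] {dG : ∀ i, G i →ₗ[R] G (i + 1)} {ε : N →ₗ[R] G 0}
  {f : Fin n → R}

theorem exists_descend (e : N ≃ₗ[R] R) (hK : CAlgH.KoszulRegular.KReg f) (hε : Function.Injective ε)
    (h0 : Function.Exact ε (dG 0)) (hG : ∀ i, Function.Exact (dG i) (dG (i + 1)))
    (hinj : ∀ i, Module.Injective R (G i)) : ∀ (i p : ℕ), i + p + 1 ≠ n →
      ∀ φ : K R n (p + 1) →ₗ[R] G i, dG i ∘ₗ φ = 0 → φ ∘ₗ d f (p + 1) = 0 →
        ∃ χ : K R n p →ₗ[R] G i, dG i ∘ₗ χ = 0 ∧ χ ∘ₗ d f p = φ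
  | 0, p, hne, φ, hd, hδ => by
    obtain ⟨η, hη⟩ := FundLocal.exists_lift_exact h0 φ hd
    obtain ⟨η', hη'⟩ := exists_comp_d hK (by omega) (e.toLinearMap ∘ₗ η) (LinearMap.ext fun z => by
      have : ε (η (d f (p + 1) z)) = ε 0 := by
        rw [map_zero]
        exact (LinearMap.congr_fun hη _).trans (LinearMap.congr_fun hδ z)
      show e (η (d f (p + 1) z)) = 0
      rw [hε this, map_zero])
    refine ⟨ε ∘ₗ e.symm.toLinearMap ∘ₗ η', by rw [← LinearMap.comp_assoc, h0.linearMap_comp_eq_zero,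
      LinearMap.zero_comp], LinearMap.ext fun z => ?_⟩
    show ε (e.symm (η' (d f p z))) = φ z
    rw [show η' (d f p z) = e (η z) from LinearMap.congr_fun hη' z, e.symm_apply_apply]
    exact LinearMap.congr_fun hη z
  | i + 1, p, hne, φ, hd, hδ => by
    obtain ⟨ρ, hρ⟩ := FundLocal.exists_lift_exact (hG i) φ hd
    obtain ⟨χ, hχ, he⟩ := exists_descend e hK hε h0 hG hinj i (p + 1) (by omega) (ρ ∘ₗ d f (p + 1))
      (by rw [← LinearMap.comp_assoc, hρ, hδ]) (by rw [LinearMap.comp_assoc, d_d, LinearMap.comp_zero])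
    obtain ⟨ζ, hζ⟩ := FundLocal.exists_factor (hinj i) (d f p) (ρ - χ) fun a ha => by
      obtain ⟨b, rfl⟩ := (hK p a).1 ha
      rw [LinearMap.sub_apply, sub_eq_zero]
      exact (LinearMap.congr_fun he b).symm
    refine ⟨dG i ∘ₗ ζ, by rw [← LinearMap.comp_assoc, (hG i).linearMap_comp_eq_zero, LinearMap.zero_comp], ?_⟩
    rw [LinearMap.comp_assoc, hζ, LinearMap.comp_sub, hρ, hχ, sub_zero]


theorem eq_zero_of_smul (e : N ≃ₗ[R] R) (hK : CAlgH.KoszulRegular.KReg f) (hn : 0 < n) (x : N)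
    (hx : ∀ i, f i • x = 0) : x = 0 := by
  let η : K R n 0 →ₗ[R] R := e.toLinearMap ∘ₗ (LinearMap.toSpanSingleton R N x).comp FundLocal.e0Equiv.symm.toLinearMap
  have h := eq_zero_of_comp_d hK hn η (LinearMap.ext fun z => by
    obtain ⟨a, ha, haz⟩ := (range_d_zero f).le ⟨z, rfl⟩
    show e (FundLocal.e0Equiv.symm (d f 0 z) • x) = 0
    rw [← haz, show FundLocal.e0Equiv.symm (e0 a) = a from FundLocal.e0Equiv.symm_apply_apply a]
    have hle : Ideal.span (Set.range f) ≤ Submodule.comap (LinearMap.toSpanSingleton R _ x) ⊥ := by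
      rw [Ideal.span, Submodule.span_le]
      rintro _ ⟨i, rfl⟩
      exact hx i
    rw [show a • x = 0 from hle ha, map_zero])
  refine e.injective ?_
  have h1 : e (FundLocal.e0Equiv.symm (e0 (n := n) (1 : R)) • x) = 0 := LinearMap.congr_fun h (e0 (n := n) (1 : R))
  rw [show FundLocal.e0Equiv.symm (e0 (n := n) (1 : R)) = 1 from FundLocal.e0Equiv.symm_apply_apply 1, one_smul] at h1
  rw [h1, map_zero]

/-- Cycles killed by the sequence are boundaries of sections killed by it, outside the degree `n`. -/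
theorem exists_boundary (e : N ≃ₗ[R] R) (hK : CAlgH.KoszulRegular.KReg f) (hε : Function.Injective ε)
    (h0 : Function.Exact ε (dG 0)) (hG : ∀ i, Function.Exact (dG i) (dG (i + 1)))
    (hinj : ∀ i, Module.Injective R (G i)) (m : ℕ) (hm : m + 1 ≠ n) (t : G (m + 1))
    (ht : dG (m + 1) t = 0) (hf : ∀ i, f i • t = 0) : ∃ s : G m, (∀ i, f i • s = 0) ∧ dG m s = t := by
  obtain ⟨s₀, hs₀⟩ := (hG m t).1 ht
  let ρ : K R n 0 →ₗ[R] G m := (LinearMap.toSpanSingleton R _ s₀).comp FundLocal.e0Equiv.symm.toLinearMap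
  have hρ : ∀ a, ρ (e0 a) = a • s₀ := fun a => congrArg (· • s₀) (FundLocal.e0Equiv.symm_apply_apply a)
  have hz : ∀ z, dG m (ρ (d f 0 z)) = 0 := fun z => by
    obtain ⟨a, ha, haz⟩ := (range_d_zero f).le ⟨z, rfl⟩
    rw [← haz, hρ, map_smul, hs₀]
    have hle : Ideal.span (Set.range f) ≤ Submodule.comap (LinearMap.toSpanSingleton R _ t) ⊥ := by
      rw [Ideal.span, Submodule.span_le]
      rintro _ ⟨i, rfl⟩
      exact hf i
    exact hle ha
  obtain ⟨χ, hχ, he⟩ := exists_descend e hK hε h0 hG hinj m 0 (by omega) (ρ ∘ₗ d f 0) (LinearMap.ext hz)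
    (by rw [LinearMap.comp_assoc, d_d, LinearMap.comp_zero])
  refine ⟨ρ (e0 1) - χ (e0 1), fun i => ?_, ?_⟩
  · have key : e0 (n := n) (f i) = f i • e0 1 := by rw [← map_smul, smul_eq_mul, mul_one]
    rw [smul_sub, ← map_smul ρ, ← map_smul χ, ← key, sub_eq_zero]
    obtain ⟨z, hz⟩ := (range_d_zero f).ge
      (Submodule.mem_map_of_mem (f := e0 (n := n)) (Ideal.subset_span ⟨i, rfl⟩))
    rw [← hz]
    exact (LinearMap.congr_fun he z).symm
  · rw [map_sub, show dG m (χ (e0 1)) = 0 from LinearMap.congr_fun hχ _, sub_zero, hρ, one_smul, hs₀]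

end Groth.Agent.Dual6Lib.KoszulVanish
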