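import Groth.Agent.Dual6Lib.KoszulVanish.Main
import Groth.Agent.Dual6Lib.KoszulVanish.DetDual
import Groth.Agent.CAlgH.PicPunctCriteria
import Groth.Agent.EulerPn5.CanonOver
import Groth.Agent.Coherent.InternalHomAdj

/-!
# `i^! O = ⋀^r N[-r]` for a Koszul regular immersion
-/

set_option autoImplicit false
set_option backward.isDefEq.respectTransparency false
set_option backward.isDefEq.respectTransparency.types false
set_option backward.defeqAttrib.useBackward true
set_option linter.style.haveILetI false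
set_option synthInstance.maxHeartbeats 100000

universe u

open CategoryTheory CategoryTheory.Limits AlgebraicGeometry HomologicalComplex
open Groth.Agent.DCat Groth.Agent.Coherent Groth.Agent.SerreDual

attribute [local instance] HasDerivedCategory.standard

namespace Groth.Agent.Dual6Lib.KoszulVanish

variable {P X : Scheme.{u}} (ι : X ⟶ P) [IsClosedImmersion ι] [Dual3.HasHomO ι]

/-- `R Hom(O_X, F)` has no cohomology in negative degrees. -/
theorem isZero_HD_neg (F : P.Modules) (j : ℤ) (hj : j < 0) :
    IsZero (DCoh.HD ((ClosedShriek.RHomOD ι).obj (DCoh.inD P F)) j) := by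
  haveI := ClosedShriek.hasRightDerived_homO ι
  let I := injectiveResolution F
  let W := HomotopyCategory.quasiIso P.Modules (ComplexShape.up ℤ)
  let T := (Dual3.homO ι).mapHomotopyCategory (ComplexShape.up ℤ) ⋙ DerivedCategory.Qh
  let β := T.totalRightDerivedUnit DerivedCategory.Qh W
  let J := (HomotopyCategory.quotient P.Modules (ComplexShape.up ℤ)).obj I.cochainComplex
  haveI : I.cochainComplex.IsKInjective := inferInstance
  haveI : IsIso (β.app J) := isIso_unit_of_mem (kInj_resolution (modules_enoughKInj P)) (kInj_isIso_map _) β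
    (inferInstance : I.cochainComplex.IsKInjective)
  let e₀ : DCoh.inD P F ≅ DerivedCategory.Qh.obj J :=
    (DerivedCategory.singleFunctorIsoCompQ P.Modules 0).app F ≪≫ asIso (DerivedCategory.Q.map I.ι') ≪≫
      ((DerivedCategory.quotientCompQhIso P.Modules).app I.cochainComplex).symm
  let K := ((Dual3.homO ι).mapHomologicalComplex _).obj I.cochainComplex
  let e₁ : (ClosedShriek.RHomOD ι).obj (DCoh.inD P F) ≅ DerivedCategory.Q.obj K :=
    (ClosedShriek.RHomOD ι).mapIso e₀ ≪≫ (asIso (β.app J)).symm ≪≫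
      DerivedCategory.Qh.mapIso (((Dual3.homO ι).mapHomotopyCategoryFactors (ComplexShape.up ℤ)).app I.cochainComplex) ≪≫
      (DerivedCategory.quotientCompQhIso X.Modules).app _
  refine IsZero.of_iso ?_ ((DerivedCategory.homologyFunctor X.Modules j).mapIso e₁ ≪≫
    (DerivedCategory.homologyFunctorFactors X.Modules j).app K)
  exact (exactAt_iff_isZero_homology _ _).1 (ShortComplex.exact_of_isZero_X₂ _
    ((Dual3.homO ι).map_isZero (CochainComplex.isZero_of_isStrictlyGE I.cochainComplex 0 j hj)))

/-- The cohomology of `R Hom(O_X, O)` for a Koszul regular immersion. -/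
theorem HD_structureModule (hi : Dual3.IsKoszulRegularImmersion ι) {r : ℕ}
    (hC : FlatMod.IsFinLocFreeOfRank r (Omega.conormal ι)) [DCoh.HasSheafHom (Omega.conormal ι)] {L : X.Modules}
    (hL : ExtPow.IsExtPow r ((DCoh.sheafHom (Omega.conormal ι)).obj (Coh.structureModule X)) L) :
    (∀ j : ℤ, j ≠ (r : ℤ) →
        IsZero (DCoh.HD ((ClosedShriek.RHomOD ι).obj (DCoh.inD P (Coh.structureModule P))) j)) ∧
      Nonempty (DCoh.HD ((ClosedShriek.RHomOD ι).obj (DCoh.inD P (Coh.structureModule P))) (r : ℤ) ≅ L) := by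
  haveI := ExtSS.preservesFiniteLimits_pushforward ι
  haveI := ExtSS.preservesFiniteColimits_pushforward ι
  haveI : Coh.IsQCoh (Coh.structureModule P) := QCohLoc.isQCoh_structureModule P
  have hB := fun {V : P.Opens} {y : P} (hy : y ∈ V) => exists_nice ι hi hC hy
  let I := injectiveResolution (Coh.structureModule P)
  refine ⟨fun j hj => ?_, ?_⟩
  · obtain hj0 | hj0 := lt_or_ge j 0
    · exact isZero_HD_neg ι _ j hj0
    obtain ⟨m, rfl⟩ : ∃ m : ℕ, j = (m : ℤ) := ⟨j.toNat, (Int.toNat_of_nonneg hj0).symm⟩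
    obtain ⟨a⟩ := FundDerived.nonempty_push_HD ι _ I m
    have h0 := IsZero.of_iso (isZero_homology ι I hB m (by omega)) a
    rw [IsZero.iff_id_eq_zero] at h0 ⊢
    exact (SerreDual.pushFF ι).map_injective (by rw [CategoryTheory.Functor.map_id, Functor.map_zero]; exact h0)
  · obtain ⟨a⟩ := FundDerived.nonempty_push_HD ι _ I r
    obtain ⟨L', hL', -⟩ : ∃ L' : X.Modules, ExtPow.IsExtPow r (Omega.conormal ι) L' ∧ True := by
      obtain ⟨L', -, h⟩ := ExtPowEx28.exists_isExtPow (LocFreeLib.isFinLocFree_of_rank hC) r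
      exact ⟨L', h, trivial⟩
    obtain ⟨b⟩ := nonempty_homology_iso ι I hB hL'
    obtain ⟨p⟩ := CAlgH.PicPunct.nonempty_pullback_unit ι
    obtain ⟨d⟩ := nonempty_det_dual hC
      (EulerPn5.CanonOver.isExtPow_congr_source ((sheafHomIso (Omega.conormal ι)).app (Coh.structureModule X)) hL) hL'
    exact ⟨(SerreDual.pushFF ι).preimageIso (a ≪≫ b) ≪≫ (internalHomFunctor L').mapIso p ≪≫ d.symm⟩

end Groth.Agent.Dual6Lib.KoszulVanish
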